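import Groth.Agent.TwistFlatLib.Kill
import Groth.Agent.PullbackMod.FibreLocus
import Groth.Agent.PullbackMod.LocFree
import Groth.Agent.PullbackMod.FibreRank
import Groth.Agent.AmpleLib.Rel
import Groth.Agent.CurveLib.Components
import Groth.Agent.HilbLib.Basic

/-!
# Flatness from flat direct images of twists by a relatively ample module
-/

set_option autoImplicit false
set_option linter.style.haveILetI false
set_option backward.isDefEq.respectTransparency false

universe u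

open CategoryTheory AlgebraicGeometry TopologicalSpace Opposite
open Groth.Agent.ParaFLib Groth.Agent.PullbackMod Groth.Agent.DCohLib Groth.Agent.AmpleLib
open Groth.Agent.FlatModLib

noncomputable section

namespace Groth.Agent.TwistFlat

variable {X S : Scheme.{u}}

theorem secFlat_congr (f : X ⟶ S) (M : X.Modules) {U U' : X.Opens} (hU : U = U') {V : S.Opens}
    {h : U ≤ f ⁻¹ᵁ V} (h' : U' ≤ f ⁻¹ᵁ V) (hfl : SecFlat f M U V h) : SecFlat f M U' V h' := by
  subst hU
  exact hfl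

theorem secFlat_of_iso (f : X ⟶ S) {M N : X.Modules} (e : M ≅ N) {U : X.Opens} {V : S.Opens}
    {h : U ≤ f ⁻¹ᵁ V} (hfl : SecFlat f M U V h) : SecFlat f N U V h := by
  letI := Module.compHom Γ(M, U) (f.appLE V U h).hom
  letI := Module.compHom Γ(N, U) (f.appLE V U h).hom
  haveI : Module.Flat Γ(S, V) Γ(M, U) := hfl
  let l : Γ(N, U) ≃ₗ[Γ(S, V)] Γ(M, U) :=
    { toFun := fun x => e.inv.app U x
      invFun := fun x => e.hom.app U x
      map_add' := fun x y => map_add (e.inv.app U).hom x y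
      map_smul' := fun r x => e.inv.app_smul _ x
      left_inv := fun x => by
        show (e.inv.app U ≫ e.hom.app U) x = x
        rw [← Scheme.Modules.Hom.comp_app, e.inv_hom_id]; rfl
      right_inv := fun x => by
        show (e.hom.app U ≫ e.inv.app U) x = x
        rw [← Scheme.Modules.Hom.comp_app, e.hom_inv_id]; rfl }
  exact Module.Flat.of_linearEquiv l

theorem secFlat_restrict {X' : Scheme.{u}} (j : X' ⟶ X) [IsOpenImmersion j] (f : X ⟶ S)
    (M : X.Modules) {U : X'.Opens} {V : S.Opens} (h : j ''ᵁ U ≤ f ⁻¹ᵁ V)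
    (h' : U ≤ (j ≫ f) ⁻¹ᵁ V) (hfl : SecFlat f M (j ''ᵁ U) V h) :
    SecFlat (j ≫ f) (M.restrict j) U V h' := by
  letI := Module.compHom Γ(M, j ''ᵁ U) (f.appLE V (j ''ᵁ U) h).hom
  letI := Module.compHom Γ(M.restrict j, U) ((j ≫ f).appLE V U h').hom
  haveI : Module.Flat Γ(S, V) Γ(M, j ''ᵁ U) := hfl
  have he : (j ≫ f).appLE V U h' ≫ (j.appIso U).inv = f.appLE V (j ''ᵁ U) h := by
    simp
    rfl
  let l : Γ(M.restrict j, U) ≃ₗ[Γ(S, V)] Γ(M, j ''ᵁ U) :=
    { toFun := fun x => x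
      invFun := fun x => x
      map_add' := fun _ _ => rfl
      map_smul' := fun r x => by
        show (j.appIso U).inv (((j ≫ f).appLE V U h').hom r) • (show Γ(M, j ''ᵁ U) from x) =
          (f.appLE V (j ''ᵁ U) h).hom r • (show Γ(M, j ''ᵁ U) from x)
        rw [← he]
        rfl
      left_inv := fun _ => rfl
      right_inv := fun _ => rfl }
  exact Module.Flat.of_linearEquiv l

theorem secFlat_preimage_of_isFinLocFree (f : X ⟶ S) (M : X.Modules)
    (hM : FlatMod.IsFinLocFree ((Coh.push f).obj M)) {V : S.Opens} (hV : IsAffineOpen V) :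
    SecFlat f M (f ⁻¹ᵁ V) V le_rfl := by
  haveI := (isQCoh_and_isFP_of_isFinLocFree _ hM).1
  have h := flat_sections_of_flat_stalks ((Coh.push f).obj M) hV (isFlat_of_isFinLocFree _ hM)
  letI := Module.compHom Γ(M, f ⁻¹ᵁ V) (f.appLE V (f ⁻¹ᵁ V) le_rfl).hom
  haveI := h
  let l : Γ(M, f ⁻¹ᵁ V) ≃ₗ[Γ(S, V)] Γ((Coh.push f).obj M, V) :=
    { toFun := fun x => x
      invFun := fun x => x
      map_add' := fun _ _ => rfl
      map_smul' := fun r x => by
        show @HSMul.hSMul Γ(X, f ⁻¹ᵁ V) Γ(M, f ⁻¹ᵁ V) Γ(M, f ⁻¹ᵁ V) _ ((f.appLE V (f ⁻¹ᵁ V) le_rfl).hom r) x =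
          (f.app V).hom r • x
        rw [Scheme.Hom.app_eq_appLE]
      left_inv := fun _ => rfl
      right_inv := fun _ => rfl }
  exact Module.Flat.of_linearEquiv l

/-- Flat direct images of the high twists give flatness. -/
theorem isFlatOver_of_twists [IsLocallyNoetherian X] (f : X ⟶ S) [QuasiCompact f] [QuasiSeparated f]
    {L : X.Modules} (hL : PicF.IsInvertible L)
    (ha : ∀ W : S.Opens, IsAffineOpen W → CohB1.IsAmple (L.restrict (f ⁻¹ᵁ W).ι))
    {F : X.Modules} (hF : Coh.IsCoh F) (n₀ : ℕ)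
    (h : ∀ n, n₀ ≤ n → FlatMod.IsFinLocFree ((Coh.push f).obj (CohB1.tensorMod F (CohB1.tensorPow L n)))) :
    FlatMod.IsFlatOver f F := by
  intro x
  obtain ⟨V, hV, hxV, -⟩ := exists_isAffineOpen_mem_and_subset (x := f x) (U := ⊤) trivial
  let j := (f ⁻¹ᵁ V).ι
  let x' : (f ⁻¹ᵁ V : Scheme.{u}) := ⟨x, hxV⟩
  obtain ⟨hL', hc, hs⟩ := ha V hV
  haveI := hc
  haveI : QuasiSeparatedSpace (f ⁻¹ᵁ V : Scheme.{u}) :=
    AmpleLib.quasiSeparatedSpace_of_isAmple (ha V hV)
  obtain ⟨m, s, hxs, hsU⟩ := hs x'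
  haveI := hF.1
  haveI : Coh.IsQCoh (F.restrict j) :=
    inferInstance
  have hVle : (⊤ : (f ⁻¹ᵁ V : Scheme.{u}).Opens) ≤ (j ≫ f) ⁻¹ᵁ V := fun y _ => y.2
  have hflat : ∀ n, n₀ ≤ n → SecFlat (j ≫ f)
      (tmod (F.restrict j) (CohB1.tensorPow (CohB1.tensorPow (L.restrict j) (m + 1)) n)) ⊤ V hVle := by
    intro n hn
    let M := CohB1.tensorMod F (CohB1.tensorPow L ((m + 1) * n))
    have h1 := secFlat_preimage_of_isFinLocFree f M
      (h _ (hn.trans (Nat.le_mul_of_pos_left n (Nat.succ_pos m)))) hV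
    have h2 := secFlat_congr f M ((f ⁻¹ᵁ V).ι_image_top).symm ((f ⁻¹ᵁ V).ι_image_top).le h1
    have h3 := secFlat_restrict j f M _ hVle h2
    exact secFlat_of_iso (j ≫ f) (restrictTensor j F _ ≪≫ tIso (Iso.refl _) (restrictPow j L _ ≪≫
      (powMul (L.restrict j) (m + 1) n).symm)) h3
  have hflU := secFlat_genLocus (j ≫ f) hVle (isInvertible_tensorPow hL' (m + 1)) (F.restrict j) s n₀ hflat
  have h4 := isFlatOverAt_of_secFlat (j ≫ f) (F.restrict j) hsU hV _ hflU x' hxs
  exact (isFlatOverAt_pullback_comp_iff j f F x'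
    (RingHom.Flat.of_bijective (ConcreteCategory.bijective_of_isIso (j.stalkMap x')))).1
    (isFlatOverAt_of_iso (restrictIso j F) (j ≫ f) x' h4)

/-- Flatness is not changed by an invertible twist. -/
theorem isFlatOver_tensor (f : X ⟶ S) {F P : X.Modules} [Coh.IsQCoh F] [Coh.IsQCoh (tmod F P)]
    (hP : PicF.IsInvertible P) (h : FlatMod.IsFlatOver f F) : FlatMod.IsFlatOver f (tmod F P) := by
  intro x
  obtain ⟨W, e, hxW, he⟩ := exists_gen_nhd hP x
  obtain ⟨V, hV, hxV, -⟩ := exists_isAffineOpen_mem_and_subset (x := f x) (U := ⊤) trivial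
  obtain ⟨U, hU, hxU, hUle⟩ := exists_isAffineOpen_mem_and_subset (x := x) (U := W ⊓ f ⁻¹ᵁ V) ⟨hxW, hxV⟩
  have hUW : U ≤ W := fun y hy => (hUle hy).1
  have hUV : U ≤ f ⁻¹ᵁ V := fun y hy => (hUle hy).2
  refine isFlatOverAt_of_secFlat f _ hU hV hUV ?_ x hxU
  have hfl := secFlat_of_isFlatOver f F hU hV hUV fun y _ => h y
  letI := Module.compHom Γ(F, U) (f.appLE V U hUV).hom
  letI := Module.compHom Γ(tmod F P, U) (f.appLE V U hUV).hom
  haveI : Module.Flat Γ(S, V) Γ(F, U) := hfl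
  have hg := he.res hUW
  let l : Γ(F, U) →ₗ[Γ(S, V)] Γ(tmod F P, U) :=
    { toFun := fun c => pairS F P c (P.presheaf.map (homOfLE hUW).op e)
      map_add' := fun c c' => pairS_add_left c c' _
      map_smul' := fun r c => pairS_smul_left _ c _ }
  exact Module.Flat.of_linearEquiv (LinearEquiv.ofBijective l
    ⟨fun c c' hc => pairS_gen_injective hg hc, fun t => ProjBundleLib.pairS_gen_surjective hg t⟩).symm

end Groth.Agent.TwistFlat
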