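import Groth.Agent.AmpleLib.ExtendMod
import Groth.Agent.ProjBundleLib.TwistIso
import Groth.Agent.FlatModLib.Affine
import Groth.Agent.AmpleLib.Separated

/-!
# Flatness of sections on the locus of a section from flatness of the twists
-/

set_option autoImplicit false
set_option linter.style.haveILetI false
set_option backward.isDefEq.respectTransparency false

universe u

open CategoryTheory AlgebraicGeometry TopologicalSpace Opposite
open Groth.Agent.ParaFLib Groth.Agent.PullbackMod Groth.Agent.DCohLib Groth.Agent.AmpleLib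

noncomputable section

namespace Groth.Agent.TwistFlat

variable {X S : Scheme.{u}} {L : X.Modules}

/-- A section killed on the locus of `s` is killed by a power of `s`. -/
theorem exists_twistPow_kill [CompactSpace X] (hL : PicF.IsInvertible L) (F : X.Modules) [Coh.IsQCoh F]
    (s : Coh.structureModule X ⟶ L) {N : ℕ} (τ : Γ(tmod F (CohB1.tensorPow L N), ⊤))
    (hτ : resT τ (CohB1.genLocus L s) = 0) : ∃ j, (twistPow F s N j).app ⊤ τ = 0 := by
  classical
  obtain ⟨t, W, e, hWe, hcov⟩ := exists_affine_gen_cover hL (O := (⊤ : X.Opens)) isCompact_univ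
  have loc : ∀ x ∈ t, ∃ J, ∀ j, J ≤ j →
      (twistPow F s N j).app (W x) (resT τ (W x)) = 0 := by
    intro x hx
    obtain ⟨hW, -, he⟩ := hWe x hx
    obtain ⟨c, hc⟩ := ProjBundleLib.pairS_gen_surjective (gen_powLoc he N) (resT τ (W x))
    obtain ⟨J, hJ⟩ := exists_twist_kill F s hW he (N := N) c 0 (by
      have h0 : pairS F _ (0 : Γ(F, W x)) (powLoc (e x) N) = 0 := by
        rw [← zero_smul Γ(X, W x) (0 : Γ(F, W x)), pairS_smul_left, zero_smul]
      rw [hc, h0, map_zero]
      have h1 := congrArg ((tmod F (CohB1.tensorPow L N)).presheaf.map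
        (homOfLE (inf_le_left : CohB1.genLocus L s ⊓ W x ≤ CohB1.genLocus L s)).op) hτ
      rw [map_zero, resT, res_res] at h1
      rw [resT, res_res]
      exact h1)
    refine ⟨J, fun j hj => ?_⟩
    rw [← hc, hJ j hj, show pairS F _ (0 : Γ(F, W x)) (powLoc (e x) N) = 0 by
      rw [← zero_smul Γ(X, W x) (0 : Γ(F, W x)), pairS_smul_left, zero_smul], map_zero]
  choose J hJ using loc
  let j := t.attach.sup fun x => J x.1 x.2
  refine ⟨j, ?_⟩
  let G : TopCat.Sheaf Ab.{u} X.carrier :=
    ⟨(tmod F (CohB1.tensorPow L (N + j))).presheaf, (tmod F (CohB1.tensorPow L (N + j))).isSheaf⟩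
  refine G.eq_of_locally_eq' (fun x : {x // x ∈ t} => W x.1) ⊤ (fun x => homOfLE le_top) (fun y hy => by
    obtain ⟨x, hx, hyx⟩ := Set.mem_iUnion₂.1 (hcov hy)
    exact Opens.mem_iSup.2 ⟨⟨x, hx⟩, hyx⟩) _ _ fun x => ?_
  show (tmod F (CohB1.tensorPow L (N + j))).presheaf.map (homOfLE le_top).op _ =
    (tmod F (CohB1.tensorPow L (N + j))).presheaf.map (homOfLE le_top).op _
  rw [map_zero, ← app_natural]
  exact hJ x.1 x.2 j (Finset.le_sup (f := fun x : {x // x ∈ t} => J x.1 x.2) (Finset.mem_attach t x))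

/-- If the twists of `F` have flat sections, then so has `F` on the locus of a section. -/
theorem secFlat_genLocus [CompactSpace X] [QuasiSeparatedSpace X] (f : X ⟶ S) {V : S.Opens}
    (hV : (⊤ : X.Opens) ≤ f ⁻¹ᵁ V) (hL : PicF.IsInvertible L) (F : X.Modules) [Coh.IsQCoh F]
    (s : Coh.structureModule X ⟶ L) (n₀ : ℕ)
    (h : ∀ n, n₀ ≤ n → FlatModLib.SecFlat f (tmod F (CohB1.tensorPow L n)) ⊤ V hV) :
    FlatModLib.SecFlat f F (CohB1.genLocus L s) V (le_top.trans hV) := by
  classical
  let U := CohB1.genLocus L s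
  let ρ := (f.appLE V U (le_top.trans hV)).hom
  let ρ' := (f.appLE V ⊤ hV).hom
  letI : Module Γ(S, V) Γ(F, U) := Module.compHom _ ρ
  show Module.Flat Γ(S, V) Γ(F, U)
  refine Module.Flat.of_forall_isTrivialRelation fun {l a m} hrel => ?_
  change ∑ i, ρ (a i) • m i = 0 at hrel
  choose k hk using fun i => exists_twist_extend hL F s (m i)
  let K := Finset.univ.sup k + n₀
  have hlift : ∀ i, ∃ σ : Γ(tmod F (CohB1.tensorPow L K), ⊤),
      resT σ U = pairS F _ (m i) (powLoc (resT (sec s) U) K) := fun i => by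
    obtain ⟨d, hd⟩ := Nat.exists_eq_add_of_le
      (show k i ≤ K from (Finset.le_sup (Finset.mem_univ i)).trans (Nat.le_add_right _ _))
    rw [hd]
    exact hk i d
  choose σ hσ using hlift
  have hnat : ∀ (M : X.Modules) (b : Γ(S, V)) (v : Γ(M, ⊤)),
      resT (ρ' b • v) U = ρ b • resT v U := fun M b v => by
    rw [resT, M.map_smul]
    congr 1
    show (f.appLE V ⊤ hV ≫ X.presheaf.map (homOfLE le_top).op).hom b = (f.appLE V U _).hom b
    rw [Scheme.Hom.appLE_map]
  have hpair : ∀ (N : ℕ) (v : Fin l → Γ(F, U)) (b : Fin l → Γ(S, V)),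
      (∑ i, ρ (b i) • pairS F _ (v i) (powLoc (resT (sec s) U) N)) =
        pairS F _ (∑ i, ρ (b i) • v i) (powLoc (resT (sec s) U) N) := fun N v b => by
    let φ : Γ(F, U) →+ Γ(tmod F (CohB1.tensorPow L N), U) :=
      AddMonoidHom.mk' (fun c => pairS F _ c (powLoc (resT (sec s) U) N)) fun c c' => pairS_add_left c c' _
    show _ = φ _
    rw [map_sum]
    exact Finset.sum_congr rfl fun i _ => (pairS_smul_left _ _ _).symm
  obtain ⟨j, hj⟩ := exists_twistPow_kill hL F s (∑ i, ρ' (a i) • σ i) (by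
    rw [resT, map_sum]
    show ∑ i, resT (ρ' (a i) • σ i) U = 0
    simp only [hnat, hσ]
    rw [hpair K m a, hrel, ← zero_smul Γ(X, U) (0 : Γ(F, U)), pairS_smul_left, zero_smul])
  rw [map_sum] at hj
  letI : Module Γ(S, V) Γ(tmod F (CohB1.tensorPow L (K + j)), ⊤) := Module.compHom _ ρ'
  haveI : Module.Flat Γ(S, V) Γ(tmod F (CohB1.tensorPow L (K + j)), ⊤) :=
    h (K + j) ((Nat.le_add_left _ _).trans (Nat.le_add_right _ _))
  let σ' : Fin l → Γ(tmod F (CohB1.tensorPow L (K + j)), ⊤) := fun i => (twistPow F s K j).app ⊤ (σ i)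
  have hrel' : ∑ i, a i • σ' i = 0 := by
    refine Eq.trans (Finset.sum_congr rfl fun i _ => ?_) hj
    exact ((twistPow F s K j).app_smul _ _).symm
  obtain ⟨p, c, y, hy, hc⟩ := Module.Flat.isTrivialRelation_of_sum_smul_eq_zero hrel'
  have hgen : Gen U (powLoc (resT (sec s) U) (K + j)) := gen_powLoc (gen_genLocus hL s) _
  choose z hz using fun q => ProjBundleLib.pairS_gen_surjective hgen (resT (y q) U)
  refine ⟨p, c, z, fun i => ?_, hc⟩
  refine pairS_gen_injective hgen ?_
  show _ = pairS F _ (∑ q, ρ (c i q) • z q) _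
  have hL1 : resT (σ' i) U = pairS F _ (m i) (powLoc (resT (sec s) U) (K + j)) := by
    show resT ((twistPow F s K j).app ⊤ (σ i)) U = _
    rw [resT, ← app_natural]
    show (twistPow F s K j).app U (resT (σ i) U) = _
    rw [hσ, twistPow_pairS, mulPow_powLoc]
  have hR : resT (σ' i) U = ∑ q, ρ (c i q) • pairS F _ (z q) (powLoc (resT (sec s) U) (K + j)) := by
    rw [hy i, resT, map_sum]
    refine Finset.sum_congr rfl fun q _ => ?_
    show resT (ρ' (c i q) • y q) U = _
    rw [hnat, hz]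
  rw [← hL1, hR]
  let φ : Γ(F, U) →+ Γ(tmod F (CohB1.tensorPow L (K + j)), U) :=
    AddMonoidHom.mk' (fun c => pairS F _ c (powLoc (resT (sec s) U) (K + j))) fun c c' => pairS_add_left c c' _
  show _ = φ _
  rw [map_sum]
  exact Finset.sum_congr rfl fun q _ => (pairS_smul_left _ _ _).symm

end Groth.Agent.TwistFlat
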